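import Groth.Prelude.Def_Grpd
import Groth.Agent.H13Desc.Immersion
import Mathlib.AlgebraicGeometry.IdealSheaf.Subscheme
import Mathlib.AlgebraicGeometry.Morphisms.Flat
import Mathlib.AlgebraicGeometry.Morphisms.ClosedImmersion

/-! Saturations of subsets under a groupoid scheme with quasi-compact flat source and target. -/

set_option autoImplicit false
universe u
open CategoryTheory CategoryTheory.Limits AlgebraicGeometry TopologicalSpace

namespace Groth.Agent.H23GrpdQc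

variable {S : Scheme.{u}} (G : Grpd.GroupoidScheme S)

theorem mem_sat_of_mem_sat (C : Set G.U) (r : G.R) (h : G.s r ∈ G.t '' (G.s ⁻¹' C)) :
    G.t r ∈ G.t '' (G.s ⁻¹' C) := by
  obtain ⟨α, hα, hαr⟩ := h
  obtain ⟨z, hz1, hz2⟩ := Scheme.Pullback.exists_preimage_pullback (f := G.s) (g := G.t) r α hαr.symm
  have e1 : G.c ≫ G.s = pullback.snd G.s G.t ≫ G.s := by
    have := G.comp_s (pullback.fst G.s G.t) (pullback.snd G.s G.t) pullback.condition
    rwa [show pullback.lift (pullback.fst G.s G.t) (pullback.snd G.s G.t) pullback.condition = 𝟙 _ from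
      pullback.hom_ext (by simp) (by simp), Category.id_comp] at this
  have e2 : G.c ≫ G.t = pullback.fst G.s G.t ≫ G.t := by
    have := G.comp_t (pullback.fst G.s G.t) (pullback.snd G.s G.t) pullback.condition
    rwa [show pullback.lift (pullback.fst G.s G.t) (pullback.snd G.s G.t) pullback.condition = 𝟙 _ from
      pullback.hom_ext (by simp) (by simp), Category.id_comp] at this
  refine ⟨G.c z, ?_, ?_⟩
  · show (G.c ≫ G.s) z ∈ C
    rw [e1, Scheme.Hom.comp_apply, hz2]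
    exact hα
  · show (G.c ≫ G.t) z = G.t r
    rw [e2, Scheme.Hom.comp_apply, hz1]

theorem preimage_sat_eq (C : Set G.U) : G.s ⁻¹' (G.t '' (G.s ⁻¹' C)) = G.t ⁻¹' (G.t '' (G.s ⁻¹' C)) := by
  refine Set.ext fun r => ⟨mem_sat_of_mem_sat G C r, fun h => ?_⟩
  have h1 : G.s (G.i r) = G.t r := by rw [← Scheme.Hom.comp_apply, G.i_s]
  have h2 : G.t (G.i r) = G.s r := by rw [← Scheme.Hom.comp_apply, G.i_t]
  have h3 := mem_sat_of_mem_sat G C (G.i r) (by rw [h1]; exact h)
  rw [h2] at h3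
  exact h3

theorem subset_sat (C : Set G.U) : C ⊆ G.t '' (G.s ⁻¹' C) := by
  intro x hx
  refine ⟨G.e x, ?_, ?_⟩
  · show (G.e ≫ G.s) x ∈ C
    rw [G.e_s]
    exact hx
  · show (G.e ≫ G.t) x = x
    rw [G.e_t]
    rfl

theorem isCompact_sat [QuasiCompact G.s] {W : G.U.Opens} (hW : IsCompact (W : Set G.U)) :
    IsCompact (G.t '' (G.s ⁻¹' (W : Set G.U))) :=
  (G.s.isCompact_preimage hW).image G.t.continuous

/-- A compact set which is stable under generalization avoids every outside point on a quasi-compact open. -/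
theorem exists_qc_open_notMem {X : Scheme.{u}} {E : Set X} (hE : IsCompact E) (y : X)
    (hy : ∀ e ∈ E, ¬ y ⤳ e) : ∃ V : X.Opens, IsCompact (V : Set X) ∧ E ⊆ V ∧ y ∉ V := by
  have key : ∀ e ∈ E, ∃ A : X.Opens, IsAffineOpen A ∧ e ∈ A ∧ y ∉ A := by
    intro e he
    have : e ∈ (closure ({y} : Set X))ᶜ := fun h => hy e he (specializes_iff_mem_closure.mpr h)
    obtain ⟨_, ⟨A : X.Opens, hA, rfl⟩, heA, hAy⟩ :=
      X.isBasis_affineOpens.exists_subset_of_mem_open this isClosed_closure.isOpen_compl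
    exact ⟨A, hA, heA, fun h => hAy h (subset_closure rfl)⟩
  choose A hA heA hyA using key
  obtain ⟨t, ht⟩ := hE.elim_finite_subcover (fun e : E => (A e.1 e.2 : Set X)) (fun e => (A e.1 e.2).isOpen)
    (fun e he => Set.mem_iUnion.mpr ⟨⟨e, he⟩, heA e he⟩)
  refine ⟨⨆ e ∈ t, A e.1 e.2, ?_, ?_, ?_⟩
  · simp only [Opens.coe_iSup]
    exact t.finite_toSet.isCompact_biUnion fun e _ => (hA e.1 e.2).isCompact
  · simpa [Opens.coe_iSup] using ht
  · simp only [Opens.mem_iSup, not_exists]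
    exact fun e _ => hyA e.1 e.2

theorem exists_qc_open_superset {X : Scheme.{u}} {E : Set X} (hE : IsCompact E) :
    ∃ V : X.Opens, IsCompact (V : Set X) ∧ E ⊆ V := by
  obtain ⟨t, ht⟩ := hE.elim_finite_subcover (fun A : X.affineOpens => ((A : X.Opens) : Set X)) (fun A => A.1.isOpen)
    (fun e _ => by
      obtain ⟨A, hA, heA, -⟩ := exists_isAffineOpen_mem_and_subset (x := e) (U := ⊤) trivial
      exact Set.mem_iUnion.mpr ⟨⟨A, hA⟩, heA⟩)
  refine ⟨⨆ A ∈ t, (A : X.Opens), ?_, ?_⟩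
  · simp only [Opens.coe_iSup]
    exact t.finite_toSet.isCompact_biUnion fun A _ => A.2.isCompact
  · simpa [Opens.coe_iSup] using ht

theorem sat_open_eq_iInter [QuasiCompact G.s] [Flat G.t] {W : G.U.Opens} (hW : IsCompact (W : Set G.U)) :
    ∃ (ι : Type u) (_ : Nonempty ι) (V : ι → G.U.Opens), (∀ i, IsCompact (V i : Set G.U)) ∧
      G.t '' (G.s ⁻¹' (W : Set G.U)) = ⋂ i, (V i : Set G.U) := by
  have hE := isCompact_sat G hW
  obtain ⟨V₀, hV₀, hV₀E⟩ := exists_qc_open_superset hE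
  refine ⟨{V : G.U.Opens // IsCompact (V : Set G.U) ∧ G.t '' (G.s ⁻¹' (W : Set G.U)) ⊆ V},
    ⟨⟨V₀, hV₀, hV₀E⟩⟩, fun V => V.1, fun V => V.2.1, ?_⟩
  refine subset_antisymm (Set.subset_iInter fun V => V.2.2) fun y hy => ?_
  by_contra hyE
  obtain ⟨V, hV, hVE, hyV⟩ := exists_qc_open_notMem hE y (by
    rintro _ ⟨r, hr, rfl⟩ hye
    obtain ⟨r', hr', hr'y⟩ := Flat.generalizingMap G.t hye
    exact hyE ⟨r', hr'.mem_open (W.isOpen.preimage G.s.continuous) hr, hr'y⟩)
  exact hyV (Set.mem_iInter.mp hy ⟨V, hV, hVE⟩)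

theorem exists_invariant_between [QuasiCompact G.s] [Flat G.s] [QuasiCompact G.t] [Flat G.t]
    {W : G.U.Opens} (hW : IsCompact (W : Set G.U)) :
    ∃ V W' : G.U.Opens, G.s ⁻¹ᵁ V = G.t ⁻¹ᵁ V ∧ IsCompact (W' : Set G.U) ∧ W ≤ V ∧ V ≤ W' := by
  obtain ⟨W', hW', hE⟩ := exists_qc_open_superset (isCompact_sat G hW)
  let I := Scheme.IdealSheafData.vanishingIdeal
    (⟨G.s ⁻¹' (W' : Set G.U)ᶜ, W'.isOpen.isClosed_compl.preimage G.s.continuous⟩ : TopologicalSpace.Closeds G.R)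
  have hT : Set.range (I.subschemeι ≫ G.t) = G.t '' (G.s ⁻¹' (W' : Set G.U)ᶜ) := by
    rw [Scheme.Hom.comp_base, TopCat.coe_comp, Set.range_comp, Scheme.IdealSheafData.range_subschemeι,
      Scheme.IdealSheafData.coe_support_vanishingIdeal]
    rfl
  refine ⟨⟨(closure (Set.range (I.subschemeι ≫ G.t)))ᶜ, isClosed_closure.isOpen_compl⟩, W', ?_, hW', ?_, ?_⟩
  · apply Opens.ext
    show G.s ⁻¹' (closure _)ᶜ = G.t ⁻¹' (closure _)ᶜ
    rw [Set.preimage_compl, Set.preimage_compl, Groth.Agent.H13Desc.preimage_closure_range,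
      Groth.Agent.H13Desc.preimage_closure_range, hT, preimage_sat_eq]
  · intro x hx hxc
    obtain ⟨y, hyW, hy⟩ := mem_closure_iff.mp hxc W W.isOpen hx
    rw [hT] at hy
    obtain ⟨r, hr, rfl⟩ := hy
    apply hr
    apply hE
    have : G.t r ∈ G.t '' (G.s ⁻¹' (W : Set G.U)) := subset_sat G _ hyW
    have h3 := (Set.ext_iff.mp (preimage_sat_eq G (W : Set G.U)) r).mpr this
    exact h3
  · intro x hx
    by_contra hxW
    exact hx (subset_closure (hT ▸ subset_sat G _ hxW))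

end Groth.Agent.H23GrpdQc
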